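import Mathlib
set_option linter.all false

/-!
# Sylow 2-subgroups of type `G₂(q)`, `q` odd: coordinates

`TG2 S m v r s`: the subgroup `S` of `G` is the split extension of `A = {v i j} ≅ Z_{2^m} × Z_{2^m}` by the
four-group `⟨r, s⟩`, where `r` interchanges the coordinates and `s` inverts `A`; `m ≥ 2`.
-/

set_option autoImplicit false

namespace Cfsg.Agent.SylowG2.Coord

/-- `2^(m-1)` in `ZMod (2^m)` -/
def half (m : ℕ) : ZMod (2 ^ m) := ((2 ^ (m - 1) : ℕ) : ZMod (2 ^ m))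

/-- `2^(m-2)` in `ZMod (2^m)` -/
def quarter (m : ℕ) : ZMod (2 ^ m) := ((2 ^ (m - 2) : ℕ) : ZMod (2 ^ m))

section arith

variable {m : ℕ}

theorem half_add_half (hm : 1 ≤ m) : half m + half m = 0 := by
  unfold half
  rw [← Nat.cast_add, ← two_mul, ← pow_succ', Nat.sub_add_cancel hm, ZMod.natCast_self]

theorem quarter_add_quarter (hm : 2 ≤ m) : quarter m + quarter m = half m := by
  unfold half quarter
  rw [← Nat.cast_add, ← two_mul, ← pow_succ']
  congr 3
  omega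

theorem half_ne_zero (hm : 1 ≤ m) : half m ≠ 0 := by
  unfold half
  rw [Ne, ZMod.natCast_eq_zero_iff]
  intro h
  have := Nat.le_of_dvd (by positivity) h
  have h2 : 2 ^ (m - 1) < 2 ^ m := Nat.pow_lt_pow_right (by norm_num) (by omega)
  omega

theorem eq_of_add_self (hm : 1 ≤ m) {x : ZMod (2 ^ m)} (hx : x + x = 0) : x = 0 ∨ x = half m := by
  have : NeZero (2 ^ m) := ⟨by positivity⟩
  have h1 : ((x.val + x.val : ℕ) : ZMod (2 ^ m)) = 0 := by
    rw [Nat.cast_add, ZMod.natCast_zmod_val, hx]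
  rw [ZMod.natCast_eq_zero_iff] at h1
  have h2 : x.val < 2 ^ m := ZMod.val_lt x
  obtain ⟨k, hk⟩ := h1
  have h3 : (2 : ℕ) ^ m = 2 * 2 ^ (m - 1) := by rw [← pow_succ', Nat.sub_add_cancel hm]
  have hk2 : k = 0 ∨ k = 1 := by
    have : k < 2 := by
      by_contra hc
      push Not at hc
      nlinarith
    omega
  rcases hk2 with rfl | rfl
  · left
    have : x.val = 0 := by omega
    exact (ZMod.val_eq_zero x).1 this
  · right
    have : x.val = 2 ^ (m - 1) := by omega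
    rw [← ZMod.natCast_zmod_val x, this]
    rfl

theorem two_ne_zero' (hm : 2 ≤ m) : (2 : ZMod (2 ^ m)) ≠ 0 := by
  have h : ((2 : ℕ) : ZMod (2 ^ m)) ≠ 0 := by
    rw [Ne, ZMod.natCast_eq_zero_iff]
    intro h
    have := Nat.le_of_dvd (by norm_num) h
    have h2 : 2 ^ 2 ≤ 2 ^ m := Nat.pow_le_pow_right (by norm_num) hm
    omega
  exact_mod_cast h

theorem one_ne_zero' (hm : 2 ≤ m) : (1 : ZMod (2 ^ m)) ≠ 0 := by
  intro h
  apply two_ne_zero' hm
  linear_combination 2 * h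

theorem eq_of_add_self_half (hm : 2 ≤ m) {x : ZMod (2 ^ m)} (hx : x + x = half m) :
    x = quarter m ∨ x = quarter m + half m := by
  have h : (x - quarter m) + (x - quarter m) = 0 := by
    have := quarter_add_quarter hm
    linear_combination hx - this
  rcases eq_of_add_self (by omega) h with h | h
  · left; linear_combination h
  · right; linear_combination h

end arith

/-- `S` is a 2-group of type `G₂(q)`, `q` odd, with coordinates `v`, `r`, `s`. -/
structure TG2 {G : Type*} [Group G] (S : Subgroup G) (m : ℕ) (v : ZMod (2 ^ m) → ZMod (2 ^ m) → G) (r s : G) :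
    Prop where
  hm : 2 ≤ m
  v_mem : ∀ i j, v i j ∈ S
  r_mem : r ∈ S
  s_mem : s ∈ S
  v_zero : v 0 0 = 1
  v_mul : ∀ i j k l, v i j * v k l = v (i + k) (j + l)
  v_inj : ∀ i j, v i j = 1 → i = 0 ∧ j = 0
  r_v : ∀ i j, r * v i j = v j i * r
  s_v : ∀ i j, s * v i j = v (-i) (-j) * s
  r_r : r * r = 1
  s_s : s * s = 1
  r_s : r * s = s * r
  cases : ∀ g ∈ S, ∃ i j, g = v i j ∨ g = v i j * r ∨ g = v i j * s ∨ g = v i j * (r * s)

namespace TG2

variable {G : Type*} [Group G] {S : Subgroup G} {m : ℕ} {v : ZMod (2 ^ m) → ZMod (2 ^ m) → G} {r s : G}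

section basic

variable (h : TG2 S m v r s)
include h

theorem m_pos : 1 ≤ m := le_trans (by norm_num) h.hm

theorem v_congr {i j k l : ZMod (2 ^ m)} (h1 : i = k) (h2 : j = l) : v i j = v k l := by
  have _ := h
  rw [h1, h2]

theorem v_inv (i j : ZMod (2 ^ m)) : (v i j)⁻¹ = v (-i) (-j) := by
  rw [inv_eq_iff_mul_eq_one, h.v_mul, add_neg_cancel, add_neg_cancel, h.v_zero]

theorem v_eq {i j k l : ZMod (2 ^ m)} (he : v i j = v k l) : i = k ∧ j = l := by
  have : v i j * v (-k) (-l) = 1 := by rw [← h.v_inv, he, mul_inv_cancel]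
  rw [h.v_mul] at this
  obtain ⟨h1, h2⟩ := h.v_inj _ _ this
  exact ⟨by linear_combination h1, by linear_combination h2⟩

theorem v_comm (i j k l : ZMod (2 ^ m)) : v i j * v k l = v k l * v i j := by
  rw [h.v_mul, h.v_mul, add_comm i, add_comm j]

theorem r_inv : r⁻¹ = r := inv_eq_of_mul_eq_one_left h.r_r

theorem s_inv : s⁻¹ = s := inv_eq_of_mul_eq_one_left h.s_s

theorem rs_inv : (r * s)⁻¹ = r * s := by rw [mul_inv_rev, h.r_inv, h.s_inv, h.r_s]

theorem rs_rs : (r * s) * (r * s) = 1 := by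
  nth_rw 1 [← h.rs_inv]
  exact inv_mul_cancel _

theorem rs_v (i j : ZMod (2 ^ m)) : r * s * v i j = v (-j) (-i) * (r * s) := by
  rw [mul_assoc, h.s_v, ← mul_assoc, h.r_v, mul_assoc]

/-- squares -/
theorem sq_v (i j : ZMod (2 ^ m)) : v i j * v i j = v (i + i) (j + j) := h.v_mul _ _ _ _

theorem sq_vr (i j : ZMod (2 ^ m)) : (v i j * r) * (v i j * r) = v (i + j) (i + j) := by
  rw [mul_assoc, ← mul_assoc r, h.r_v, mul_assoc (v j i), h.r_r, mul_one, h.v_mul, add_comm j i]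

theorem sq_vs (i j : ZMod (2 ^ m)) : (v i j * s) * (v i j * s) = 1 := by
  rw [mul_assoc, ← mul_assoc s, h.s_v, mul_assoc (v (-i) (-j)), h.s_s, mul_one, h.v_mul, add_neg_cancel,
    add_neg_cancel, h.v_zero]

theorem sq_vrs (i j : ZMod (2 ^ m)) : (v i j * (r * s)) * (v i j * (r * s)) = v (i - j) (j - i) := by
  rw [mul_assoc, ← mul_assoc (r * s), h.rs_v, mul_assoc (v (-j) (-i)), h.rs_rs, mul_one, h.v_mul, sub_eq_add_neg,
    sub_eq_add_neg]

/-- commutation with `v k l` -/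
theorem comm_vr {i j k l : ZMod (2 ^ m)} (hc : (v i j * r) * v k l = v k l * (v i j * r)) : k = l := by
  rw [mul_assoc, h.r_v, ← mul_assoc, ← mul_assoc, h.v_mul, h.v_mul] at hc
  obtain ⟨h1, -⟩ := h.v_eq (mul_right_cancel hc)
  linear_combination -h1

theorem comm_vs {i j k l : ZMod (2 ^ m)} (hc : (v i j * s) * v k l = v k l * (v i j * s)) :
    k + k = 0 ∧ l + l = 0 := by
  rw [mul_assoc, h.s_v, ← mul_assoc, ← mul_assoc, h.v_mul, h.v_mul] at hc
  obtain ⟨h1, h2⟩ := h.v_eq (mul_right_cancel hc)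
  exact ⟨by linear_combination -h1, by linear_combination -h2⟩

theorem comm_vrs {i j k l : ZMod (2 ^ m)} (hc : (v i j * (r * s)) * v k l = v k l * (v i j * (r * s))) :
    k + l = 0 := by
  rw [mul_assoc, h.rs_v, ← mul_assoc, ← mul_assoc (v k l), h.v_mul, h.v_mul] at hc
  obtain ⟨h1, -⟩ := h.v_eq (mul_right_cancel hc)
  linear_combination -h1

theorem vr_ne (i j k l : ZMod (2 ^ m)) : v i j * r ≠ v k l := by
  intro he
  have h1 : (v i j * r) * v 1 0 = v 1 0 * (v i j * r) := by rw [he, h.v_comm]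
  exact one_ne_zero' h.hm (h.comm_vr h1)

theorem vs_ne (i j k l : ZMod (2 ^ m)) : v i j * s ≠ v k l := by
  intro he
  have h1 : (v i j * s) * v 1 0 = v 1 0 * (v i j * s) := by rw [he, h.v_comm]
  refine two_ne_zero' h.hm ?_
  have := (h.comm_vs h1).1
  rw [← this]; norm_num

theorem vrs_ne (i j k l : ZMod (2 ^ m)) : v i j * (r * s) ≠ v k l := by
  intro he
  have h1 : (v i j * (r * s)) * v 1 0 = v 1 0 * (v i j * (r * s)) := by rw [he, h.v_comm]
  have := h.comm_vrs h1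
  rw [add_zero] at this
  exact one_ne_zero' h.hm this

theorem vr_ne_vrs (i j k l : ZMod (2 ^ m)) : v i j * r ≠ v k l * (r * s) := by
  intro he
  apply h.vs_ne k l i j
  have : v i j * r * r = v k l * (r * s) * r := by rw [he]
  rw [mul_assoc (v i j), h.r_r, mul_one, h.r_s, mul_assoc (v k l), mul_assoc s, h.r_r, mul_one] at this
  exact this.symm

/-- the involution `t` -/
theorem t_ne_one : v (half m) (half m) ≠ 1 := fun he => half_ne_zero h.m_pos (h.v_inj _ _ he).1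

theorem t_sq : v (half m) (half m) * v (half m) (half m) = 1 := by
  rw [h.v_mul, half_add_half h.m_pos, h.v_zero]

theorem t_comm_r : r * v (half m) (half m) = v (half m) (half m) * r := h.r_v _ _

theorem neg_half : -half m = half m := by
  have := half_add_half h.m_pos
  linear_combination -this

theorem t_comm_s : s * v (half m) (half m) = v (half m) (half m) * s := by
  rw [h.s_v, h.neg_half]

/-- `t` is central in `S` -/
theorem t_central {g : G} (hg : g ∈ S) : g * v (half m) (half m) = v (half m) (half m) * g := by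
  obtain ⟨i, j, rfl | rfl | rfl | rfl⟩ := h.cases g hg
  · exact h.v_comm _ _ _ _
  · rw [mul_assoc, h.t_comm_r, ← mul_assoc, h.v_comm, mul_assoc]
  · rw [mul_assoc, h.t_comm_s, ← mul_assoc, h.v_comm, mul_assoc]
  · rw [mul_assoc, h.rs_v, h.neg_half, ← mul_assoc, h.v_comm, mul_assoc]

theorem one_mem : v 0 0 ∈ S := h.v_mem _ _

/-- an involution or trivial element of `A` -/
theorem v_sq_one {i j : ZMod (2 ^ m)} (he : v i j * v i j = 1) :
    (i = 0 ∨ i = half m) ∧ (j = 0 ∨ j = half m) := by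
  rw [h.v_mul] at he
  obtain ⟨h1, h2⟩ := h.v_inj _ _ he
  exact ⟨eq_of_add_self h.m_pos h1, eq_of_add_self h.m_pos h2⟩

/-- the symmetry interchanging the two quaternion subgroups -/
theorem symm : TG2 S m (fun i j => v i (-j)) (r * s) s where
  hm := h.hm
  v_mem i j := h.v_mem _ _
  r_mem := mul_mem h.r_mem h.s_mem
  s_mem := h.s_mem
  v_zero := by simp [h.v_zero]
  v_mul i j k l := by rw [h.v_mul, neg_add]
  v_inj i j he := by
    obtain ⟨h1, h2⟩ := h.v_inj _ _ he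
    exact ⟨h1, neg_eq_zero.1 h2⟩
  r_v i j := by rw [h.rs_v, neg_neg]
  s_v i j := by rw [h.s_v]
  r_r := h.rs_rs
  s_s := h.s_s
  r_s := by rw [h.r_s, mul_assoc, h.r_s]
  cases g hg := by
    obtain ⟨i, j, hc⟩ := h.cases g hg
    refine ⟨i, -j, ?_⟩
    simp only [neg_neg]
    rcases hc with hc | hc | hc | hc
    · exact Or.inl hc
    · right; right; right
      rw [hc, mul_assoc r s s, h.s_s, mul_one]
    · exact Or.inr (Or.inr (Or.inl hc))
    · exact Or.inr (Or.inl hc)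

end basic

/-- the first generalized quaternion subgroup `⟨a b⁻¹, r a^(2^(m-1))⟩` -/
def Q1 (h : TG2 S m v r s) : Subgroup G where
  carrier := {g | (∃ i, g = v i (-i)) ∨ ∃ i, g = v (i + half m) (-i) * r}
  mul_mem' := by
    rintro a b (⟨i, rfl⟩ | ⟨i, rfl⟩) (⟨j, rfl⟩ | ⟨j, rfl⟩)
    · left
      exact ⟨i + j, by rw [h.v_mul, neg_add]⟩
    · right
      refine ⟨i + j, ?_⟩
      rw [← mul_assoc, h.v_mul]
      congr 2 <;> ring
    · right
      refine ⟨i - j, ?_⟩
      rw [mul_assoc, h.r_v, ← mul_assoc, h.v_mul]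
      congr 2 <;> ring
    · left
      refine ⟨i + half m - j, ?_⟩
      rw [mul_assoc, ← mul_assoc r, h.r_v, mul_assoc (v (-j) _), h.r_r, mul_one, h.v_mul]
      have := half_add_half h.m_pos
      exact h.v_congr (by ring) (by linear_combination this)
  one_mem' := Or.inl ⟨0, by rw [neg_zero, h.v_zero]⟩
  inv_mem' := by
    rintro a (⟨i, rfl⟩ | ⟨i, rfl⟩)
    · left
      exact ⟨-i, by rw [h.v_inv]⟩
    · right
      refine ⟨i + half m, ?_⟩
      rw [mul_inv_rev, h.v_inv, h.r_inv, h.r_v]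
      have := half_add_half h.m_pos
      rw [h.v_congr (show - -i = i + half m + half m by linear_combination -this)
        (show -(i + half m) = -(i + half m) from rfl)]

/-- the second generalized quaternion subgroup -/
def Q2 (h : TG2 S m v r s) : Subgroup G := h.symm.Q1

section subgroups

variable (h : TG2 S m v r s)

theorem mem_Q1 {g : G} : g ∈ h.Q1 ↔ (∃ i, g = v i (-i)) ∨ ∃ i, g = v (i + half m) (-i) * r := Iff.rfl

theorem mem_Q2 {g : G} : g ∈ h.Q2 ↔ (∃ i, g = v i i) ∨ ∃ i, g = v (i + half m) i * (r * s) := by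
  have : g ∈ h.Q2 ↔ (∃ i, g = v i (- -i)) ∨ ∃ i, g = v (i + half m) (- -i) * (r * s) := Iff.rfl
  rw [this]
  simp only [neg_neg]

theorem Q1_le : h.Q1 ≤ S := by
  rintro g (⟨i, rfl⟩ | ⟨i, rfl⟩)
  · exact h.v_mem _ _
  · exact mul_mem (h.v_mem _ _) h.r_mem

theorem Q2_le : h.Q2 ≤ S := h.symm.Q1_le

theorem t_mem_Q1 : v (half m) (half m) ∈ h.Q1 := Or.inl ⟨half m, by rw [h.neg_half]⟩

theorem t_mem_Q2 : v (half m) (half m) ∈ h.Q2 := h.mem_Q2.2 (Or.inl ⟨half m, rfl⟩)

/-- `S` normalizes `Q1` -/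
theorem conj_mem_Q1 {g x : G} (hg : g ∈ S) (hx : x ∈ h.Q1) : g * x * g⁻¹ ∈ h.Q1 := by
  have h2 := half_add_half h.m_pos
  have hr : ∀ x ∈ h.Q1, r * x * r⁻¹ ∈ h.Q1 := by
    rintro x (⟨i, rfl⟩ | ⟨i, rfl⟩)
    · left
      exact ⟨-i, by rw [h.r_v, h.r_inv, mul_assoc, h.r_r, mul_one, neg_neg]⟩
    · right
      refine ⟨-i + half m, ?_⟩
      rw [← mul_assoc r, h.r_v, h.r_inv, mul_assoc (v _ _) r r, h.r_r, mul_one]
      congr 2
      · linear_combination -h2
      · linear_combination h2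
  have hs : ∀ x ∈ h.Q1, s * x * s⁻¹ ∈ h.Q1 := by
    rintro x (⟨i, rfl⟩ | ⟨i, rfl⟩)
    · left
      exact ⟨-i, by rw [h.s_v, h.s_inv, mul_assoc, h.s_s, mul_one]⟩
    · right
      refine ⟨-i, ?_⟩
      rw [← mul_assoc s, h.s_v, h.s_inv, mul_assoc (v _ _) s r, ← h.r_s, ← mul_assoc, mul_assoc _ s s, h.s_s,
        mul_one]
      congr 2
      linear_combination -h2
  have hv : ∀ k l, ∀ x ∈ h.Q1, v k l * x * (v k l)⁻¹ ∈ h.Q1 := by
    rintro k l x (⟨i, rfl⟩ | ⟨i, rfl⟩)
    · left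
      exact ⟨i, by rw [h.v_comm, mul_inv_cancel_right]⟩
    · right
      refine ⟨i + k - l, ?_⟩
      rw [h.v_inv, mul_assoc, mul_assoc _ r, h.r_v, ← mul_assoc, ← mul_assoc, h.v_mul, h.v_mul]
      congr 2 <;> ring
  obtain ⟨k, l, rfl | rfl | rfl | rfl⟩ := h.cases g hg
  · exact hv k l x hx
  · have := hv k l _ (hr x hx)
    simpa [mul_assoc] using this
  · have := hv k l _ (hs x hx)
    simpa [mul_assoc] using this
  · have := hv k l _ (hr _ (hs x hx))
    simpa [mul_assoc] using this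

theorem conj_mem_Q2 {g x : G} (hg : g ∈ S) (hx : x ∈ h.Q2) : g * x * g⁻¹ ∈ h.Q2 :=
  h.symm.conj_mem_Q1 hg hx

/-- elements of `S` with square `t` lie in `Q1` or in `Q2` -/
theorem mem_or_of_sq {g : G} (hg : g ∈ S) (hsq : g * g = v (half m) (half m)) : g ∈ h.Q1 ∨ g ∈ h.Q2 := by
  have h2 := half_add_half h.m_pos
  have h4 := quarter_add_quarter h.hm
  obtain ⟨i, j, rfl | rfl | rfl | rfl⟩ := h.cases g hg
  · rw [h.sq_v] at hsq
    obtain ⟨h5, h6⟩ := h.v_eq hsq
    rcases eq_of_add_self_half h.hm h5 with rfl | rfl <;> rcases eq_of_add_self_half h.hm h6 with rfl | rfl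
    · right; exact h.mem_Q2.2 (Or.inl ⟨_, rfl⟩)
    · left; exact Or.inl ⟨_, h.v_congr rfl (by linear_combination h2 + h4)⟩
    · left; exact Or.inl ⟨_, h.v_congr rfl (by linear_combination h2 + h4)⟩
    · right; exact h.mem_Q2.2 (Or.inl ⟨_, rfl⟩)
  · rw [h.sq_vr] at hsq
    obtain ⟨h5, -⟩ := h.v_eq hsq
    left; right
    refine ⟨-j, ?_⟩
    rw [h.v_congr (show i = -j + half m by linear_combination h5) (neg_neg j).symm]
  · rw [h.sq_vs] at hsq
    exact absurd hsq.symm h.t_ne_one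
  · rw [h.sq_vrs] at hsq
    obtain ⟨h5, -⟩ := h.v_eq hsq
    right
    refine h.mem_Q2.2 (Or.inr ⟨j, ?_⟩)
    rw [h.v_congr (show i = j + half m by linear_combination h5) rfl]

/-- `Q1 ∩ Q2 = ⟨t⟩` -/
theorem eq_of_mem_inf {g : G} (h1 : g ∈ h.Q1) (h2 : g ∈ h.Q2) : g = 1 ∨ g = v (half m) (half m) := by
  have hh := half_add_half h.m_pos
  rcases h1 with ⟨i, rfl⟩ | ⟨i, rfl⟩
  · rcases h.mem_Q2.1 h2 with ⟨j, hj⟩ | ⟨j, hj⟩
    · obtain ⟨h3, h4⟩ := h.v_eq hj
      have : i + i = 0 := by linear_combination h3 - h4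
      rcases eq_of_add_self h.m_pos this with rfl | rfl
      · left; rw [neg_zero, h.v_zero]
      · right; rw [h.neg_half]
    · exact absurd hj.symm (h.vrs_ne _ _ _ _)
  · rcases h.mem_Q2.1 h2 with ⟨j, hj⟩ | ⟨j, hj⟩
    · exact absurd hj (h.vr_ne _ _ _ _)
    · exact absurd hj (h.vr_ne_vrs _ _ _ _)

end subgroups

end TG2

end Cfsg.Agent.SylowG2.Coord
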